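import Mathlib

/-!
# Derivations and the pinch point subalgebra `K[x², xy, y]`
-/

universe u

namespace Groth.Agent.Pinch7

open MvPolynomial

variable (K : Type u) [Field K]

/-- `x`. -/
noncomputable abbrev x : MvPolynomial (Fin 2) K := X 0
/-- `y`. -/
noncomputable abbrev y : MvPolynomial (Fin 2) K := X 1
/-- `K[x², xy, y]`. -/
noncomputable abbrev R : Subalgebra K (MvPolynomial (Fin 2) K) := Algebra.adjoin K {x K ^ 2, x K * y K, y K}

variable {K}

theorem y_mem : y K ∈ R K := Algebra.subset_adjoin (by simp)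
theorem sq_mem : x K ^ 2 ∈ R K := Algebra.subset_adjoin (by simp)
theorem xy_mem : x K * y K ∈ R K := Algebra.subset_adjoin (by simp)

theorem y_mul_mem (s : MvPolynomial (Fin 2) K) : y K * s ∈ R K := by
  suffices y K * s ∈ R K ∧ y K * (x K * s) ∈ R K from this.1
  induction s using MvPolynomial.induction_on with
  | C a =>
    refine ⟨mul_mem y_mem ((R K).algebraMap_mem a), ?_⟩
    rw [← mul_assoc, mul_comm (y K)]
    exact mul_mem xy_mem ((R K).algebraMap_mem a)
  | add p q hp hq => exact ⟨by rw [mul_add]; exact add_mem hp.1 hq.1, by rw [mul_add, mul_add]; exact add_mem hp.2 hq.2⟩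
  | mul_X p i hp =>
    fin_cases i
    · refine ⟨?_, ?_⟩
      · convert hp.2 using 1; show y K * (p * x K) = _; ring
      · convert mul_mem sq_mem hp.1 using 1; show y K * (x K * (p * x K)) = _; ring
    · refine ⟨?_, ?_⟩
      · convert mul_mem (y_mem (K := K)) hp.1 using 1; show y K * (p * y K) = _; ring
      · convert mul_mem (y_mem (K := K)) hp.2 using 1; show y K * (x K * (p * y K)) = _; ring

theorem aeval_sq_mem (q : Polynomial K) : Polynomial.aeval (x K ^ 2) q ∈ R K :=
  Algebra.adjoin_mono (by simp) (Polynomial.aeval_mem_adjoin_singleton K (x K ^ 2) (p := q))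

variable (K) in
/-- Setting `y = 0`. -/
noncomputable def rest : MvPolynomial (Fin 2) K →ₐ[K] Polynomial K := aeval ![Polynomial.X, 0]

theorem rest_x : rest K (x K) = Polynomial.X := by simp [rest]
theorem rest_y : rest K (y K) = 0 := by simp [rest]

theorem rest_mem {r : MvPolynomial (Fin 2) K} (hr : r ∈ R K) : ∃ q, rest K r = Polynomial.expand K 2 q := by
  have : R K ≤ (Polynomial.expand K 2).range.comap (rest K) := by
    refine Algebra.adjoin_le ?_
    rintro a (rfl | rfl | rfl)
    · exact ⟨Polynomial.X, by simp [rest_x, rest_y]⟩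
    · exact ⟨0, by simp [rest_x, rest_y]⟩
    · exact ⟨0, by simp [rest_x, rest_y]⟩
  obtain ⟨q, hq⟩ := this hr
  exact ⟨q, hq.symm⟩

theorem exists_decomp (r : MvPolynomial (Fin 2) K) : ∃ s, r = y K * s + Polynomial.aeval (x K) (rest K r) := by
  induction r using MvPolynomial.induction_on with
  | C a => exact ⟨0, by simp [rest]⟩
  | add p q hp hq =>
    obtain ⟨s, hs⟩ := hp
    obtain ⟨t, ht⟩ := hq
    exact ⟨s + t, by rw [map_add, map_add]; linear_combination hs + ht⟩
  | mul_X p i hp =>
    obtain ⟨s, hs⟩ := hp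
    fin_cases i
    · exact ⟨s * x K, by
        rw [map_mul]; show p * x K = y K * (s * x K) + Polynomial.aeval (x K) (rest K p * rest K (x K)); rw [rest_x]
        rw [map_mul, Polynomial.aeval_X]; linear_combination x K * hs⟩
    · exact ⟨p, by
        rw [map_mul]; show p * y K = y K * p + Polynomial.aeval (x K) (rest K p * rest K (y K)); rw [rest_y, mul_zero, map_zero]; ring⟩

theorem apply_mem_iff (D : Derivation K (MvPolynomial (Fin 2) K) (MvPolynomial (Fin 2) K)) :
    (∀ r ∈ R K, D r ∈ R K) ↔ D (x K ^ 2) ∈ R K ∧ D (x K * y K) ∈ R K ∧ D (y K) ∈ R K := by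
  refine ⟨fun h => ⟨h _ sq_mem, h _ xy_mem, h _ y_mem⟩, fun ⟨h1, h2, h3⟩ r hr => ?_⟩
  induction hr using Algebra.adjoin_induction with
  | mem a ha => rcases ha with rfl | rfl | rfl <;> assumption
  | algebraMap a => rw [Derivation.map_algebraMap]; exact zero_mem _
  | add a b _ _ ha hb => rw [map_add]; exact add_mem ha hb
  | mul a b ha' hb' ha hb =>
    rw [Derivation.leibniz, smul_eq_mul, smul_eq_mul]
    exact add_mem (mul_mem ha' hb) (mul_mem hb' ha)

theorem maps_into_iff [NeZero (2 : K)] (D : Derivation K (MvPolynomial (Fin 2) K) (MvPolynomial (Fin 2) K)) :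
    (∀ r ∈ R K, D r ∈ R K) ↔
      (D (y K) ∈ Ideal.span {y K} ∧
        ∃ (s : MvPolynomial (Fin 2) K) (p : Polynomial K), D (x K) = y K * s + x K * Polynomial.aeval (x K ^ 2) p) := by
  rw [apply_mem_iff, Derivation.leibniz, Derivation.leibniz_pow]
  simp only [smul_eq_mul]
  norm_num only
  constructor
  · rintro ⟨h1, h2, h3⟩
    obtain ⟨e, he⟩ := rest_mem h3
    obtain ⟨e', he'⟩ := rest_mem h2
    rw [map_add, map_mul, map_mul, rest_x, rest_y, zero_mul, add_zero, he] at he'
    have he0 : e = 0 := by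
      ext n
      have h := congrArg (fun P => Polynomial.coeff P (2 * n + 1)) he'
      simpa [Polynomial.coeff_X_mul, Polynomial.coeff_expand two_pos,
        show ¬ 2 ∣ 2 * n + 1 by omega] using h
    rw [he0, map_zero] at he
    obtain ⟨a, ha⟩ := exists_decomp (D (y K))
    rw [he, map_zero, add_zero] at ha
    refine ⟨Ideal.mem_span_singleton'.mpr ⟨a, by rw [ha, mul_comm]⟩, ?_⟩
    obtain ⟨q, hq⟩ := rest_mem h1
    simp only [map_nsmul, map_smul, map_mul, pow_one, smul_eq_mul, rest_x, nsmul_eq_mul, map_natCast,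
      Nat.cast_ofNat, map_ofNat] at hq
    have hq' : Polynomial.X * rest K (D (x K)) = Polynomial.expand K 2 (Polynomial.C (2 : K)⁻¹ * q) := by
      rw [map_mul, Polynomial.expand_C, ← hq, show (2 : Polynomial K) = Polynomial.C 2 from (map_ofNat _ 2).symm,
        ← mul_assoc, ← Polynomial.C_mul, inv_mul_cancel₀ (NeZero.ne (2 : K)), map_one, one_mul]
    obtain ⟨p, hp⟩ : Polynomial.X ∣ Polynomial.C (2 : K)⁻¹ * q := by
      rw [Polynomial.X_dvd_iff]
      simpa [Polynomial.coeff_expand two_pos] using (congrArg (fun P => Polynomial.coeff P 0) hq').symm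
    have hg : rest K (D (x K)) = Polynomial.X * Polynomial.expand K 2 p := by
      refine mul_left_cancel₀ Polynomial.X_ne_zero ?_
      rw [hq', hp, map_mul, Polynomial.expand_X]; ring
    obtain ⟨s, hs⟩ := exists_decomp (D (x K))
    refine ⟨s, p, hs.trans ?_⟩
    rw [hg, map_mul, Polynomial.aeval_X, Polynomial.expand_aeval]
  · rintro ⟨hy, s, p, hx⟩
    obtain ⟨a, ha⟩ := Ideal.mem_span_singleton'.mp hy
    rw [hx, ← ha]
    refine ⟨?_, ?_, by rw [mul_comm]; exact y_mul_mem a⟩
    · convert add_mem (y_mul_mem (2 * x K * s)) (mul_mem ((R K).natCast_mem 2) (mul_mem sq_mem (aeval_sq_mem p))) using 1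
      push_cast
      simp only [nsmul_eq_mul, smul_eq_mul, Nat.cast_ofNat]
      ring
    · convert y_mul_mem (x K * a + (y K * s + x K * Polynomial.aeval (x K ^ 2) p)) using 1
      ring

theorem existsUnique_extend [NeZero (2 : K)] (δ : Derivation K (R K) (MvPolynomial (Fin 2) K)) :
    ∃! D : Derivation K (MvPolynomial (Fin 2) K) (MvPolynomial (Fin 2) K),
      ∀ r : R K, D (r : MvPolynomial (Fin 2) K) = δ r := by
  let rx : R K := ⟨_, sq_mem⟩
  let rxy : R K := ⟨_, xy_mem⟩
  let ry : R K := ⟨_, y_mem⟩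
  have h2 : (2 : MvPolynomial (Fin 2) K) ≠ 0 := by
    rw [← map_ofNat C 2]; exact fun h => NeZero.ne (2 : K) (C_injective _ _ (h.trans C_0.symm))
  have hrel : rxy * rxy = rx * (ry * ry) := Subtype.ext (show x K * y K * (x K * y K) = x K ^ 2 * (y K * y K) by ring)
  have h := congrArg δ hrel
  simp only [Derivation.leibniz] at h
  have hkey : y K * δ rx = x K * (2 * (δ rxy - x K * δ ry)) := by
    refine mul_left_cancel₀ (X_ne_zero (1 : Fin 2)) ?_
    simp only [Subalgebra.smul_def, smul_eq_mul, rx, rxy, ry, MulMemClass.coe_mul] at h ⊢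
    linear_combination -h
  obtain ⟨g, hg⟩ : x K ∣ δ rx := by
    refine (X_prime (R := K) (i := (0 : Fin 2))).dvd_or_dvd ⟨_, hkey⟩ |>.resolve_left fun hd => ?_
    exact absurd (X_dvd_X.mp hd) (by decide)
  let g' := C (2 : K)⁻¹ * g
  have hg' : δ rx = 2 * (x K * g') := by
    rw [hg, show (2 : MvPolynomial (Fin 2) K) * (x K * g') = x K * ((2 * C (2 : K)⁻¹) * g) by simp only [g']; ring,
      ← map_ofNat C 2, ← map_mul, mul_inv_cancel₀ (NeZero.ne (2 : K)), map_one, one_mul]
  have hxy : y K * g' + x K * δ ry = δ rxy := by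
    rw [hg'] at hkey
    refine mul_left_cancel₀ (mul_ne_zero h2 (X_ne_zero (0 : Fin 2))) ?_
    linear_combination hkey
  refine ⟨mkDerivation K ![g', δ ry], fun r => ?_, fun D hD => ?_⟩
  · obtain ⟨r, hr⟩ := r
    induction hr using Algebra.adjoin_induction with
    | mem a ha =>
      rcases ha with rfl | rfl | rfl
      · show mkDerivation K ![g', δ ry] (x K ^ 2) = δ rx
        rw [Derivation.leibniz_pow, hg']
        simp
      · show mkDerivation K ![g', δ ry] (x K * y K) = δ rxy
        rw [Derivation.leibniz, ← hxy]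
        simp [add_comm]
      · show mkDerivation K ![g', δ ry] (y K) = δ ry
        simp
    | algebraMap a =>
      rw [show (⟨algebraMap K (MvPolynomial (Fin 2) K) a, _⟩ : R K) = algebraMap K (R K) a from rfl]
      simp
    | add a b ha hb iha ihb =>
      rw [show (⟨a + b, _⟩ : R K) = ⟨a, ha⟩ + ⟨b, hb⟩ from rfl, map_add, Subalgebra.coe_add, map_add, iha, ihb]
    | mul a b ha hb iha ihb =>
      rw [show (⟨a * b, _⟩ : R K) = ⟨a, ha⟩ * ⟨b, hb⟩ from rfl, Derivation.leibniz δ, Subalgebra.coe_mul,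
        Derivation.leibniz, iha, ihb]
      rfl
  · have hDy : D (y K) = δ ry := hD ry
    have hDx : D (x K) = g' := by
      have h1 : D (x K ^ 2) = δ rx := hD rx
      rw [hg', Derivation.leibniz_pow] at h1
      refine mul_left_cancel₀ (mul_ne_zero h2 (X_ne_zero (0 : Fin 2))) ?_
      simp only [nsmul_eq_mul, smul_eq_mul, Nat.cast_ofNat, pow_one] at h1
      linear_combination h1
    refine derivation_ext fun i => ?_
    fin_cases i
    · show D (x K) = mkDerivation K ![g', δ ry] (X 0)
      rw [hDx]; simp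
    · show D (y K) = mkDerivation K ![g', δ ry] (X 1)
      rw [hDy]; simp

end Groth.Agent.Pinch7
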